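import Cfsg.Agent.Helper17.M11Q2TC.Lemmas

set_option autoImplicit false
set_option linter.all false

noncomputable section

namespace Cfsg.Agent.Helper17.M11Q2TC

theorem F1 : act 0 n0 = n0 := d3_0 B0 
theorem F2 : act 1 n0 = n0 := d4_0 B1 
def n1 : Q := act 2 n0
theorem D1 : act 2 n0 = n1 := rfl
theorem F3 : act 0 n1 = n1 := d1_1 D1 (iv D1) F1
def n2 : Q := act 1 n1
theorem D2 : act 1 n1 = n2 := rfl
theorem F4 : act 2 n2 = n2 := d2_2 D1 D2 (iv D2) (iv D1) F2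
def n3 : Q := act 0 n2
theorem D3 : act 0 n2 = n3 := rfl
theorem F5 : act 1 n3 = n3 := d0_2 D2 D3 (iv D3) (iv D2) F3
theorem F6 : act 2 n3 = n3 := d1_2 F4 D3 (iv D3)

end Cfsg.Agent.Helper17.M11Q2TC
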